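import Cfsg.Agent.H968.Rat.Crit
import Cfsg.Agent.H843.IMC.Co2B
import Cfsg.Agent.H690.Spor.Ru
import Cfsg.Agent.RuLat.Main
import Cfsg.Agent.S1680
import Cfsg.Agent.S1624
import Cfsg.Agent.NotCT.Orders

/-!
# S4891, rows of `J2` (`p = 5`), `Suz` (`p = 3`), `Ru` (`p = 5`), `Co2` (`p = 5`) (helper968)

`p` divides the degree of the rank 3 action.
-/

set_option autoImplicit false
set_option maxRecDepth 100000

open Cfsg Cfsg.Agent.H145.BR Subgroup

namespace Cfsg.Agent.H968.Rat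

open Cfsg.Agent.H690.Spor.RankThree

universe u

theorem core_j2 {S : Type u} [Group S] (h : Cfsg.Spor.IsoJ2 S) {p : ℕ} [hp : Fact p.Prime]
    (hd : p ∣ 100) : Core p S := by
  obtain ⟨e⟩ := h
  have hJ : Nat.card Spor.J2 = 604800 := Cfsg.Agent.NotCT.Orders.j2 ⟨MulEquiv.refl _⟩
  have : Finite Spor.J2 := Nat.finite_of_card_ne_zero (by rw [hJ]; norm_num)
  refine Core.congr e ?_
  obtain ⟨H, h1, -, q₁, q₂, ho1, ho2⟩ := Cfsg.Agent.S1624.result
  obtain ⟨R, hR⟩ := R3.of_index H (k := 36) (l := 63) h1 ho1 ho2 (by norm_num) (by norm_num) (by norm_num)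
  exact core_of_r3 hR hd (by decide +kernel)

theorem core_suz {S : Type u} [Group S] (h : Cfsg.Spor.IsoSuz S) {p : ℕ} [hp : Fact p.Prime]
    (hd : p ∣ 1782) : Core p S := by
  obtain ⟨e⟩ := h
  have hJ : Nat.card Spor.Suz = 448345497600 := Cfsg.Agent.NotCT.Orders.suz ⟨MulEquiv.refl _⟩
  have : Finite Spor.Suz := Nat.finite_of_card_ne_zero (by rw [hJ]; norm_num)
  refine Core.congr e ?_
  obtain ⟨h1, q₁, q₂, h2, h3⟩ := Cfsg.Agent.S1680.result
  obtain ⟨R, hR⟩ := R3.of_index _ (k := 416) (l := 1365) h1 h2 h3 (by norm_num) (by norm_num) (by norm_num)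
  exact core_of_r3 hR hd (by decide +kernel)

theorem core_co2 {S : Type u} [Group S] (h : Cfsg.Spor.IsoCo2 S) {p : ℕ} [hp : Fact p.Prime]
    (hd : p ∣ 2300) : Core p S := by
  obtain ⟨e⟩ := h
  have hJ : Nat.card Spor.Co2 = 42305421312000 := Cfsg.Agent.NotCT.Orders.co2 ⟨MulEquiv.refl _⟩
  have : Finite Spor.Co2 := Nat.finite_of_card_ne_zero (by rw [hJ]; norm_num)
  refine Core.congr e ?_
  exact core_of_r3 Cfsg.Agent.H843.IMC.Co2B.r3 hd (by decide +kernel)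

theorem core_ru {S : Type u} [Group S] (h : Cfsg.Spor.IsoRu S) {p : ℕ} [hp : Fact p.Prime]
    (hd : p ∣ 4060) : Core p S := by
  obtain ⟨e⟩ := h
  have hS : Nat.card Spor.Ru = 145926144000 := Cfsg.Agent.RuLat.Main.main.2.1
  have : Finite Spor.Ru := Nat.finite_of_card_ne_zero (by rw [hS]; norm_num)
  have : Finite Cfsg.Agent.SporadicB.RuOrder.H := Finite.of_equiv _ Cfsg.Agent.RuLat.Main.equiv.toEquiv
  refine Core.congr (e.trans Cfsg.Agent.RuLat.Main.equiv) ?_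
  obtain ⟨R, hR⟩ := Cfsg.Agent.H690.Spor.Ru.r3
  exact core_of_r3 hR hd (by decide +kernel)

end Cfsg.Agent.H968.Rat
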