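import Cfsg.Agent.H968.Imc.RankThreeRat
import Cfsg.Agent.H145.BR.Defs
import Cfsg.Agent.H893.Sd.MemIff
import Cfsg.Agent.H116.RatB0.StB0
import Cfsg.Agent.H684.Principal
import Cfsg.Agent.H649.Transport

/-!
# S4891, criteria for the rows of the sporadic groups (helper968)

* `Core p S` : for every `M` a `p`-rational nontrivial character of `p'`-degree in the principal block;
* `Core.rowT` : `RowT p S` if `p` does not divide the index of the inner automorphisms;
* `exists_of_dvd` : if `p` divides the degree of a transitive action whose character is `1 + ∑ χ i`, then some `χ i` is in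
  the principal block and of `p'`-degree;
* `core_of_r3` : rank 3, `p` divides the degree; `core_of_deg` : `C(P)` a `p`-group.
-/

set_option autoImplicit false
set_option linter.unusedSectionVars false

open Cfsg Cfsg.Agent.H145.BR

namespace Cfsg.Agent.H968.Rat

open Cfsg.Agent.Blocks.Blau Cfsg.Agent.Blocks.Local Cfsg.Agent.Characters

universe u v

/-- a witness for every `M`, no automorphisms -/
def Core (p : ℕ) (S : Type u) [Group S] : Prop :=
  ∀ M : Ideal AlgInt, IsPModular p M → ∃ θ : IrrCharacter S, Wit p M S θ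

theorem Core.rowT {p : ℕ} [hp : Fact p.Prime] {S : Type u} [Group S] [Finite S] (h : Core p S)
    (hout : ¬ p ∣ (MulAut.conj : S →* MulAut S).range.index) : RowT p S := by
  classical
  intro A hA M hM
  obtain ⟨θ, hθ⟩ := h M hM
  refine ⟨θ, hθ, fun a ha x => ?_⟩
  have hfin : Finite (MulAut S) := inferInstance
  have hn : (MulAut.conj : S →* MulAut S).range.Normal := by
    refine ⟨?_⟩
    rintro _ ⟨s, rfl⟩ b
    exact ⟨b s, by
      ext y
      simp only [MulAut.mul_apply, MulAut.conj_apply, map_mul, map_inv, MulAut.apply_inv_self]⟩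
  have hmem : a ∈ (MulAut.conj : S →* MulAut S).range := by
    rw [← QuotientGroup.eq_one_iff]
    obtain ⟨k, hk⟩ := hA ⟨a, ha⟩
    have hk' : a ^ p ^ k = 1 := by simpa using congrArg Subtype.val hk
    have h1 : orderOf (QuotientGroup.mk a : MulAut S ⧸ (MulAut.conj : S →* MulAut S).range) ∣ p ^ k := by
      rw [orderOf_dvd_iff_pow_eq_one, ← QuotientGroup.mk_pow, hk', QuotientGroup.mk_one]
    have h2 : orderOf (QuotientGroup.mk a : MulAut S ⧸ (MulAut.conj : S →* MulAut S).range) ∣
        (MulAut.conj : S →* MulAut S).range.index := by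
      rw [Subgroup.index_eq_card]
      exact orderOf_dvd_natCard _
    rw [← orderOf_eq_one_iff]
    have h3 : Nat.Coprime (p ^ k) (MulAut.conj : S →* MulAut S).range.index :=
      Nat.Coprime.pow_left k ((Nat.Prime.coprime_iff_not_dvd hp.out).2 hout)
    exact Nat.dvd_one.1 (h3 ▸ Nat.dvd_gcd h1 h2)
  obtain ⟨s, rfl⟩ := hmem
  rw [MulAut.conj_apply]
  exact Blocks.Basic.irr_conj θ.2 x s

section count

variable {G : Type u} [Group G] [Finite G] {M : Ideal AlgInt}

theorem deg_eq (χ : IrrCharacter G) : (χ : G → ℂ) 1 = charDegree (χ : G → ℂ) := Blocks.Knorr.charDegree_eq χ.2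

theorem ne_zero (χ : IrrCharacter G) : (χ : G → ℂ) 1 ≠ 0 := Blocks.Basic.irr_one_ne_zero χ.2

/-- the sum over the `p`-regular elements of a character of the principal block -/
theorem sum_reg {p : ℕ} [hp : Fact p.Prime] (hM : IsPModular p M) [Fintype G] {χ : IrrCharacter G}
    (h : χ ∈ principalBlock M G) :
    MemLocalIdeal M ((Nat.card {x : G // ¬ p ∣ orderOf x} : ℂ) * charDegree (χ : G → ℂ) -
      ∑ g : G, regPart p (χ : G → ℂ) g) := by
  have hprime := isPrime_of_isPModular hM
  have h1 := pair_div_sub_pair_div hM (H893.Sd.one G).2 χ.2 (Core.isIrr_isCharacter (H893.Sd.one G).2) h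
  have h3 : pair p ((H893.Sd.one G : IrrCharacter G) : G → ℂ) ((H893.Sd.one G : IrrCharacter G) : G → ℂ) =
    (Nat.card {x : G // ¬ p ∣ orderOf x} : ℂ) := H893.Sd.pair_one_one p
  have h4 : ((H893.Sd.one G : IrrCharacter G) : G → ℂ) 1 = 1 := rfl
  have h5 : pair p (χ : G → ℂ) ((H893.Sd.one G : IrrCharacter G) : G → ℂ) = ∑ g : G, regPart p (χ : G → ℂ) g :=
    H893.Sd.pair_one p (χ : G → ℂ)
  rw [h3, h4, h5, div_one, deg_eq] at h1
  have h6 := Blocks.LocalRing.memLocalIdeal_mul_right hM h1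
    (Blocks.LocalRing.memLocalRing_natCast hM (charDegree (χ : G → ℂ)))
  have h7 : (charDegree (χ : G → ℂ) : ℂ) ≠ 0 := by rw [← deg_eq]; exact ne_zero χ
  rw [sub_mul, div_mul_cancel₀ _ h7] at h6
  exact h6

/-- the sum of a transitive permutation character over the `p`-regular elements is divisible by the degree -/
theorem sum_reg_fix (p : ℕ) [Fintype G] {X : Type v} [MulAction G X] [Finite X] [MulAction.IsPretransitive G X]
    [Nonempty X] : ∃ r : ℕ, ∑ g : G, regPart p (fun g : G => (Nat.card (MulAction.fixedBy X g) : ℂ)) g =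
      ((Nat.card X * r : ℕ) : ℂ) := by
  classical
  obtain ⟨x⟩ := ‹Nonempty X›
  obtain ⟨e, he⟩ : ∃ e : X ≃ G ⧸ MulAction.stabilizer G x, ∀ (g : G) (y : X), e (g • y) = g • e y := by
    have hs : Function.Surjective (MulAction.ofQuotientStabilizer G x) := by
      intro y
      obtain ⟨g, hg⟩ := MulAction.exists_smul_eq G x y
      exact ⟨QuotientGroup.mk g, hg⟩
    let e := Equiv.ofBijective _ ⟨MulAction.injective_ofQuotientStabilizer G x, hs⟩
    refine ⟨e.symm, fun g y => ?_⟩
    apply e.injective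
    rw [Equiv.apply_symm_apply]
    show g • y = MulAction.ofQuotientStabilizer G x (g • e.symm y)
    rw [MulAction.ofQuotientStabilizer_smul]
    congr 1
    exact (e.apply_symm_apply y).symm
  refine ⟨H116.RatB0.reg p (MulAction.stabilizer G x), ?_⟩
  have h1 : Nat.card X = (MulAction.stabilizer G x).index := by
    rw [Subgroup.index_eq_card]
    exact Nat.card_congr e
  rw [h1, ← H116.RatB0.sum_regPart_perm]
  refine Finset.sum_congr rfl fun g _ => ?_
  congr 1
  funext g
  show (Nat.card (MulAction.fixedBy X g) : ℂ) = fixedPointCharacter (MulAction.stabilizer G x) g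
  unfold fixedPointCharacter
  congr 1
  refine Nat.card_congr (e.subtypeEquiv fun y => ?_)
  rw [MulAction.mem_fixedBy, MulAction.mem_fixedBy]
  rw [← he, e.injective.eq_iff]

/-- **Count.** -/
theorem exists_of_dvd {p : ℕ} [hp : Fact p.Prime] (hM : IsPModular p M) {X : Type v} [MulAction G X] [Finite X]
    [MulAction.IsPretransitive G X] (hd : p ∣ Nat.card X) {ι : Type*} [Fintype ι] (χ : ι → IrrCharacter G)
    (hsum : ∀ g : G, (Nat.card (MulAction.fixedBy X g) : ℂ) = 1 + ∑ i, (χ i : G → ℂ) g) :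
    ∃ i, χ i ∈ principalBlock M G ∧ ¬ p ∣ charDegree (χ i : G → ℂ) := by
  classical
  have : Fintype G := Fintype.ofFinite G
  by_contra hcon
  push Not at hcon
  rcases isEmpty_or_nonempty X with hX | hX
  · have h1 := hsum 1
    have h2 : Nat.card (MulAction.fixedBy X (1 : G)) = 0 := Nat.card_of_isEmpty
    rw [h2] at h1
    have h3 : ∑ i, (χ i : G → ℂ) 1 = ((∑ i, charDegree (χ i : G → ℂ) : ℕ) : ℂ) := by
      rw [Nat.cast_sum]
      exact Finset.sum_congr rfl fun i _ => deg_eq (χ i)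
    rw [h3] at h1
    have h4 : (0 : ℕ) = 1 + ∑ i, charDegree (χ i : G → ℂ) := by exact_mod_cast h1
    omega
  obtain ⟨r, hr⟩ := sum_reg_fix (G := G) p (X := X)
  have h1 : ∑ g : G, regPart p (fun g : G => (Nat.card (MulAction.fixedBy X g) : ℂ)) g =
      (Nat.card {x : G // ¬ p ∣ orderOf x} : ℂ) + ∑ i, ∑ g : G, regPart p (χ i : G → ℂ) g := by
    rw [Finset.sum_comm, ← H893.Sd.pair_one_one p, H893.Sd.pair_one, ← Finset.sum_add_distrib]
    refine Finset.sum_congr rfl fun g _ => ?_
    by_cases hg : p ∣ orderOf g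
    · rw [regPart_of_dvd hg, regPart_of_dvd hg, Finset.sum_eq_zero fun i _ => regPart_of_dvd hg, add_zero]
    · rw [regPart_of_not_dvd hg, regPart_of_not_dvd hg, hsum]
      congr 1
      exact Finset.sum_congr rfl fun i _ => (regPart_of_not_dvd hg).symm
  have h2 : MemLocalIdeal M (∑ i, ∑ g : G, regPart p (χ i : G → ℂ) g) := by
    refine Blocks.LocalRing.memLocalIdeal_sum hM _ _ fun i _ => ?_
    by_cases hi : χ i ∈ principalBlock M G
    · have h3 := sum_reg hM hi
      have h4 : MemLocalIdeal M ((Nat.card {x : G // ¬ p ∣ orderOf x} : ℂ) * charDegree (χ i : G → ℂ)) :=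
        Blocks.LocalRing.memLocalIdeal_mul_left hM (Blocks.LocalRing.memLocalRing_natCast hM _)
          ((Blocks.LocalRing.memLocalIdeal_natCast_iff hM _).2 (hcon i hi))
      have h5 := Blocks.LocalRing.memLocalIdeal_sub hM h4 h3
      rwa [sub_sub_cancel] at h5
    · have h3 : ∑ g : G, regPart p (χ i : G → ℂ) g = 0 := by
        by_contra h4
        exact hi ((H893.Sd.mem_iff hM (χ i)).2 h4)
      rw [h3]
      exact Blocks.LocalRing.memLocalIdeal_zero hM
  have h3 : MemLocalIdeal M ((Nat.card {x : G // ¬ p ∣ orderOf x} : ℂ)) := by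
    have h4 : (Nat.card {x : G // ¬ p ∣ orderOf x} : ℂ) = ((Nat.card X * r : ℕ) : ℂ) -
        ∑ i, ∑ g : G, regPart p (χ i : G → ℂ) g := by
      rw [← hr, h1]; ring
    rw [h4]
    exact Blocks.LocalRing.memLocalIdeal_sub hM
      ((Blocks.LocalRing.memLocalIdeal_natCast_iff hM _).2 (hd.mul_right r)) h2
  rw [Blocks.LocalRing.memLocalIdeal_natCast_iff hM] at h3
  exact Cfsg.Agent.Blocks.RegularCount.not_dvd_card_regular h3

end count

theorem ne_one_of_deg {G : Type u} [Group G] {χ : IrrCharacter G} (h : charDegree (χ : G → ℂ) ≠ 1) :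
    (χ : G → ℂ) ≠ fun _ => 1 := by
  intro h0
  apply h
  have h1 : ((charDegree (χ : G → ℂ) : ℕ) : ℂ) = 1 := by rw [← Blocks.Knorr.charDegree_eq χ.2, h0]
  exact_mod_cast h1

/-- **Rank 3, `p` divides the degree.** -/
theorem core_of_r3 {p : ℕ} [hp : Fact p.Prime] {G : Type u} [Group G] [Finite G] {X : Type v} [MulAction G X]
    {R : X → X → Prop} {k l : ℕ} (h : H690.Spor.RankThree.R3 G X R k l) (hd : p ∣ 1 + k + l)
    (hc : Imc.chkP k l (fun a b => decide (a ≠ 1) && decide (b ≠ 1)) = true) : Core p G := by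
  intro M hM
  have hX : Finite X := Nat.finite_of_card_ne_zero (by rw [h.cardn]; omega)
  have htr := h.trans
  obtain ⟨χ₁, χ₂, h1, h2, h3, h4⟩ := Imc.exists_pair h _ hc
  rw [Bool.and_eq_true, decide_eq_true_eq, decide_eq_true_eq] at h4
  obtain ⟨i, hi1, hi2⟩ := exists_of_dvd hM (X := X) (by rw [h.cardn]; exact hd) ![χ₁, χ₂] fun g => by
    rw [h3 g, Fin.sum_univ_two]
    simp only [Matrix.cons_val_zero, Matrix.cons_val_one]
    ring
  have hi : i = 0 ∨ i = 1 := by fin_cases i <;> simp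
  rcases hi with rfl | rfl
  · exact ⟨χ₁, hi1, ne_one_of_deg h4.1, hi2, pRat_of_int h1⟩
  · exact ⟨χ₂, hi1, ne_one_of_deg h4.2, hi2, pRat_of_int h2⟩

/-- **`C(P)` a `p`-group.** -/
theorem core_of_deg {p : ℕ} [hp : Fact p.Prime] {G : Type u} [Group G] [Finite G] {U : Subgroup G}
    (hU : IsPGroup p U) (hC : IsPGroup p (Subgroup.centralizer (U : Set G))) (χ : IrrCharacter G)
    (hχ : ¬ p ∣ charDegree (χ : G → ℂ)) (h1 : charDegree (χ : G → ℂ) ≠ 1) (hr : PRat p (χ : G → ℂ)) : Core p G :=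
  fun _ hM => ⟨χ, H684.Principal.mem_of_not_dvd hM hU hC χ hχ, ne_one_of_deg h1, hχ, hr⟩

theorem core_of_r3_deg {p : ℕ} [hp : Fact p.Prime] {G : Type u} [Group G] [Finite G] {X : Type v} [MulAction G X]
    {R : X → X → Prop} {k l : ℕ} (h : H690.Spor.RankThree.R3 G X R k l) {U : Subgroup G}
    (hU : IsPGroup p U) (hC : IsPGroup p (Subgroup.centralizer (U : Set G)))
    (hc : Imc.chkP k l (fun a b => decide (a ≠ 1 ∧ a % p ≠ 0) || decide (b ≠ 1 ∧ b % p ≠ 0)) = true) : Core p G := by
  obtain ⟨χ₁, χ₂, h1, h2, h3, h4⟩ := Imc.exists_pair h _ hc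
  rw [Bool.or_eq_true, decide_eq_true_eq, decide_eq_true_eq] at h4
  rcases h4 with h4 | h4
  · exact core_of_deg hU hC χ₁ (fun h5 => h4.2 (Nat.mod_eq_zero_of_dvd h5)) h4.1 (pRat_of_int h1)
  · exact core_of_deg hU hC χ₂ (fun h5 => h4.2 (Nat.mod_eq_zero_of_dvd h5)) h4.1 (pRat_of_int h2)

/-- transport -/
theorem Core.congr {p : ℕ} {S : Type u} {T : Type v} [Group S] [Group T] (e : S ≃* T)
    (h : Core p T) : Core p S := by
  intro M hM
  obtain ⟨θ, h1, h2, h3, n, hn, h4⟩ := h M hM
  refine ⟨H649.irrMap e.symm θ, ?_, ?_, ?_, n, hn, fun g => h4 _⟩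
  · rw [← H649.blkMap_principalBlock e.symm]
    exact H649.irrMap_mem_blkMap.2 h1
  · intro h5
    apply h2
    funext t
    have h6 := congrFun h5 (e.symm t)
    have h7 : (H649.irrMap e.symm θ : S → ℂ) (e.symm t) = (θ : T → ℂ) (e.symm.symm (e.symm t)) := rfl
    rw [h7, MulEquiv.symm_symm, MulEquiv.apply_symm_apply] at h6
    exact h6
  · rw [H649.charDegree_irrMap]
    exact h3

end Cfsg.Agent.H968.Rat
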