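import Cfsg.Agent.H968.Rat.RowMathieu
import Cfsg.Agent.H968.Rat.RowLarge
import Cfsg.Agent.H493.RatB.HS

/-!
# S4857/S4829, rational witnesses (helper968)

`WitR 3` for the five Mathieu groups; `WitR p` for `J2` (`p ∣ 100`), `Suz` (`p ∣ 1782`), `Co2` (`p ∣ 2300`), `Ru` (`p ∣ 4060`).
-/

set_option autoImplicit false
set_option maxRecDepth 100000
set_option linter.unusedSectionVars false

open Cfsg Cfsg.Agent.H145.BR Cfsg.Agent.H493.RatB Subgroup
open scoped Pointwise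

namespace Cfsg.Agent.H968.Rat

universe u

section four

variable {G : Type u} {Ω : Type*} [Group G] [Finite G] [MulAction G Ω] [Finite Ω]

theorem ratV_one {χ : IrrCharacter G}
    (h : ∀ g : G, (χ : G → ℂ) g = (Nat.card (MulAction.fixedBy Ω g) : ℂ) - 1) : RatV (χ : G → ℂ) :=
  RatV.of_int fun g => ⟨(Nat.card (MulAction.fixedBy Ω g) : ℤ) - 1, by rw [h]; push_cast; rfl⟩

/-- `p` divides the degree -/
theorem witR_of_four_dvd {p : ℕ} [hp : Fact p.Prime] (hk : 4 ≤ Nat.card Ω)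
    (h4 : MulAction.IsMultiplyPretransitive G Ω 4) (hd : p ∣ Nat.card Ω) : WitR p G := by
  intro M hM
  have h1 : MulAction.IsPretransitive G Ω := by
    have h2 : MulAction.IsMultiplyPretransitive G Ω 1 :=
      MulAction.isMultiplyPretransitive_of_le (n := 4) (by norm_num) hk
    exact MulAction.is_one_pretransitive_iff.1 h2
  obtain ⟨χ, hχ, hdeg⟩ := exists_one (G := G) hk h4
  obtain ⟨i, hi1, hi2⟩ := exists_of_dvd hM (X := Ω) hd (fun _ : Unit => χ) fun g => by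
    rw [Finset.univ_unique, Finset.sum_singleton, hχ]
    ring
  exact ⟨χ, hi1, ne_one_of_deg (by rw [hdeg]; omega), hi2, ratV_one hχ⟩

/-- `C(P)` a `p`-group -/
theorem witR_of_four_deg {p : ℕ} [hp : Fact p.Prime] (hk : 4 ≤ Nat.card Ω)
    (h4 : MulAction.IsMultiplyPretransitive G Ω 4) {U : Subgroup G}
    (hU : IsPGroup p U) (hC : IsPGroup p (centralizer (U : Set G))) (hd : ¬ p ∣ Nat.card Ω - 1) : WitR p G := by
  obtain ⟨χ, hχ, hdeg⟩ := exists_one (G := G) hk h4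
  exact witR_of_cent hU hC χ (ne_one_of_deg (by rw [hdeg]; omega)) (by rw [hdeg]; exact hd) (ratV_one hχ)

end four

open Cfsg.Agent.H701.PBMathieu Cfsg.Agent.H852.IMMathieu Cfsg.Agent.H690.Spor.RankThree

/-- `M11`, `p = 3` -/
theorem witR_m11 {S : Type u} [Group S] (h : Cfsg.Spor.IsoM11 S) : WitR 3 S := by
  obtain ⟨e⟩ := h
  have h3 : Fact (Nat.Prime 3) := ⟨Nat.prime_three⟩
  have := Cfsg.Agent.Cit.Eleven.finite (⟨MulEquiv.refl _⟩ : Cfsg.Spor.IsoM11 Spor.M11)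
  have hG' := Cfsg.Agent.Cit.Eleven.isM11 (⟨MulEquiv.refl _⟩ : Cfsg.Spor.IsoM11 Spor.M11)
  have hS : Finite S := Finite.of_equiv _ e.symm.toEquiv
  refine WitR.congr e ?_
  obtain ⟨hinv, h4, hn⟩ := four_m11
  let _ := actOn Spor.M11 ((Spor.squareDodecad : Set GolayPt) \ {some 0}) hinv
  obtain ⟨P⟩ : Nonempty (Sylow 3 Spor.M11) := inferInstance
  have hC := SporadicA.M11Three.centralizer_P hG' ⟨fun u hu => SporadicA.M11Facts.card_centralizer_two hG' hu,
    fun y hy => SporadicA.M11Facts.card_centralizer_five hG' hy,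
    fun x hx => SporadicA.M11Sylow.card_centralizer_eleven hG' hx⟩ P
  exact witR_of_four_deg (by rw [hn]; norm_num) h4 P.2 (by rw [hC]; exact P.2) (by rw [hn]; norm_num)

/-- `M12`, `p = 3` -/
theorem witR_m12 {S : Type u} [Group S] (h : Cfsg.Spor.IsoM12 S) : WitR 3 S := by
  obtain ⟨e⟩ := h
  have h3 : Fact (Nat.Prime 3) := ⟨Nat.prime_three⟩
  have hcard : Nat.card Spor.M12 = 95040 := Cfsg.Agent.NotCT.Orders.m12 ⟨MulEquiv.refl _⟩
  have : Finite Spor.M12 := Nat.finite_of_card_ne_zero (by rw [hcard]; norm_num)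
  have hS : Finite S := Finite.of_equiv _ e.symm.toEquiv
  refine WitR.congr e ?_
  obtain ⟨hinv, h4, hn⟩ := four_m12
  let _ := actOn Spor.M12 (Spor.squareDodecad : Set GolayPt) hinv
  exact witR_of_four_dvd (by rw [hn]; norm_num) h4 (by rw [hn]; norm_num)

/-- `M24`, `p = 3` -/
theorem witR_m24 {S : Type u} [Group S] (h : Cfsg.Spor.IsoM24 S) : WitR 3 S := by
  have hcS : Nat.card S = 244823040 := NotCT.Orders.m24 h
  obtain ⟨e⟩ := h
  have h3 : Fact (Nat.Prime 3) := ⟨Nat.prime_three⟩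
  have hcard : Nat.card M24 = 244823040 := by rw [← hcS]; exact (Nat.card_congr e.toEquiv).symm
  have : Finite M24 := Nat.finite_of_card_ne_zero (by rw [hcard]; norm_num)
  have hS : Finite S := Finite.of_equiv _ e.symm.toEquiv
  refine WitR.congr e ?_
  obtain ⟨h4, hn⟩ := four_m24
  exact witR_of_four_dvd (by rw [hn]; norm_num) h4 (by rw [hn]; norm_num)

/-- `M23`, `p = 3` -/
theorem witR_m23 {S : Type u} [Group S] (h : Cfsg.Spor.IsoM23 S) : WitR 3 S := by
  obtain ⟨e⟩ := h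
  have h3 : Fact (Nat.Prime 3) := ⟨Nat.prime_three⟩
  have : Finite Spor.M23 := Nat.finite_of_card_ne_zero (by rw [cardM23]; norm_num)
  have hS : Finite S := Finite.of_equiv _ e.symm.toEquiv
  refine WitR.congr e ?_
  obtain ⟨hinv, h4, hn⟩ := four_m23
  let _ := actOn Spor.M23 {x : GolayPt | x ≠ none} hinv
  obtain ⟨U, hU, hC⟩ := cent_m23
  exact witR_of_four_deg (by rw [hn]; norm_num) h4 hU hC (by rw [hn]; norm_num)

/-- `M22`, `p = 3` : degree 55 -/
theorem witR_m22 {S : Type u} [Group S] (h : Cfsg.Spor.IsoM22 S) : WitR 3 S := by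
  obtain ⟨e⟩ := h
  have h3 : Fact (Nat.Prime 3) := ⟨Nat.prime_three⟩
  have hc22 : Nat.card Spor.M22 = 443520 := Cfsg.Agent.NotCT.Orders.m22 ⟨MulEquiv.refl _⟩
  have : Finite Spor.M22 := Nat.finite_of_card_ne_zero (by rw [hc22]; norm_num)
  have hS : Finite S := Finite.of_equiv _ e.symm.toEquiv
  refine WitR.congr e ?_
  let _ := actSub XH hXH
  obtain ⟨P⟩ : Nonempty (Sylow 3 Spor.M22) := inferInstance
  obtain ⟨χ₁, χ₂, h1, h2, -, h4⟩ := Imc.exists_pair r3_hexads (fun a b => decide (a ≠ 1 ∧ a % 3 ≠ 0) || decide (b ≠ 1 ∧ b % 3 ≠ 0))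
    (by decide +kernel)
  rw [Bool.or_eq_true, decide_eq_true_eq, decide_eq_true_eq] at h4
  rcases h4 with h4 | h4
  · exact witR_of_cent P.2 (cent_m22 P) χ₁ (ne_one_of_deg h4.1) (fun h5 => h4.2 (Nat.mod_eq_zero_of_dvd h5)) (RatV.of_int h1)
  · exact witR_of_cent P.2 (cent_m22 P) χ₂ (ne_one_of_deg h4.1) (fun h5 => h4.2 (Nat.mod_eq_zero_of_dvd h5)) (RatV.of_int h2)

/-! ### rank three -/

theorem witR_j2 {S : Type u} [Group S] (h : Cfsg.Spor.IsoJ2 S) {p : ℕ} [hp : Fact p.Prime]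
    (hd : p ∣ 100) : WitR p S := by
  obtain ⟨e⟩ := h
  have hJ : Nat.card Spor.J2 = 604800 := Cfsg.Agent.NotCT.Orders.j2 ⟨MulEquiv.refl _⟩
  have : Finite Spor.J2 := Nat.finite_of_card_ne_zero (by rw [hJ]; norm_num)
  have hS : Finite S := Finite.of_equiv _ e.symm.toEquiv
  refine WitR.congr e ?_
  obtain ⟨H, h1, -, q₁, q₂, ho1, ho2⟩ := Cfsg.Agent.S1624.result
  obtain ⟨R, hR⟩ := R3.of_index H (k := 36) (l := 63) h1 ho1 ho2 (by norm_num) (by norm_num) (by norm_num)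
  exact witR_of_r3 hR hd (by decide +kernel)

theorem witR_suz {S : Type u} [Group S] (h : Cfsg.Spor.IsoSuz S) {p : ℕ} [hp : Fact p.Prime]
    (hd : p ∣ 1782) : WitR p S := by
  obtain ⟨e⟩ := h
  have hJ : Nat.card Spor.Suz = 448345497600 := Cfsg.Agent.NotCT.Orders.suz ⟨MulEquiv.refl _⟩
  have : Finite Spor.Suz := Nat.finite_of_card_ne_zero (by rw [hJ]; norm_num)
  have hS : Finite S := Finite.of_equiv _ e.symm.toEquiv
  refine WitR.congr e ?_
  obtain ⟨h1, q₁, q₂, h2, h3⟩ := Cfsg.Agent.S1680.result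
  obtain ⟨R, hR⟩ := R3.of_index _ (k := 416) (l := 1365) h1 h2 h3 (by norm_num) (by norm_num) (by norm_num)
  exact witR_of_r3 hR hd (by decide +kernel)

theorem witR_co2 {S : Type u} [Group S] (h : Cfsg.Spor.IsoCo2 S) {p : ℕ} [hp : Fact p.Prime]
    (hd : p ∣ 2300) : WitR p S := by
  obtain ⟨e⟩ := h
  have hJ : Nat.card Spor.Co2 = 42305421312000 := Cfsg.Agent.NotCT.Orders.co2 ⟨MulEquiv.refl _⟩
  have : Finite Spor.Co2 := Nat.finite_of_card_ne_zero (by rw [hJ]; norm_num)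
  have hS : Finite S := Finite.of_equiv _ e.symm.toEquiv
  refine WitR.congr e ?_
  exact witR_of_r3 Cfsg.Agent.H843.IMC.Co2B.r3 hd (by decide +kernel)

theorem witR_ru {S : Type u} [Group S] (h : Cfsg.Spor.IsoRu S) {p : ℕ} [hp : Fact p.Prime]
    (hd : p ∣ 4060) : WitR p S := by
  obtain ⟨e⟩ := h
  have hR : Nat.card Spor.Ru = 145926144000 := Cfsg.Agent.RuLat.Main.main.2.1
  have : Finite Spor.Ru := Nat.finite_of_card_ne_zero (by rw [hR]; norm_num)
  have : Finite Cfsg.Agent.SporadicB.RuOrder.H := Finite.of_equiv _ Cfsg.Agent.RuLat.Main.equiv.toEquiv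
  have hS : Finite S := Finite.of_equiv _ e.symm.toEquiv
  refine WitR.congr (e.trans Cfsg.Agent.RuLat.Main.equiv) ?_
  obtain ⟨R, hR⟩ := Cfsg.Agent.H690.Spor.Ru.r3
  exact witR_of_r3 hR hd (by decide +kernel)

end Cfsg.Agent.H968.Rat
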