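import Cfsg.Agent.H968.Rat.Crit
import Cfsg.Agent.H498.SporOut

/-!
# `Core p S` is enough for the sporadic groups (helper968)
-/

set_option autoImplicit false

open Cfsg Cfsg.Agent.H145.BR

namespace Cfsg.Agent.H968.Rat

universe u

/-- for a sporadic group the automorphisms play no role -/
theorem rowT_sporadic {p : ℕ} [hp : Fact p.Prime] (h2 : p ≠ 2) {S : Type u} [Group S] [Finite S]
    (hS : IsSporadicGroup S) (h : Core p S) : RowT p S := by
  refine h.rowT fun hd => ?_
  have h1 := H498.SporOut.index_le_two hS
  have h3 : (MulAut.conj : S →* MulAut S).range.index ≠ 0 := Subgroup.index_ne_zero_of_finite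
  have h4 := Nat.le_of_dvd (Nat.pos_of_ne_zero h3) hd
  have h5 := hp.out.two_le
  omega

end Cfsg.Agent.H968.Rat
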